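import Groth.Agent.Dual22Lib.XiIso
import Groth.Agent.Dual22Lib.AdjExists
import Groth.Agent.Dual22Lib.SupportAdj
import Groth.Agent.Dual6Lib.BCShriekGlobal
import Groth.Agent.DQCoh.PointDetect17
import Groth.Agent.DCat.MVTriangles
import Groth.Agent.DCat.PullComp

/-!
# Bounded above right adjoints under tor independent base change
-/

set_option autoImplicit false
set_option backward.isDefEq.respectTransparency false
set_option backward.defeqAttrib.useBackward true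
set_option linter.style.haveILetI false
set_option linter.unusedSectionVars false
set_option synthInstance.maxHeartbeats 100000

universe u

open CategoryTheory CategoryTheory.Limits CategoryTheory.Pretriangulated AlgebraicGeometry TopologicalSpace
open DerivedCategory
open Groth.Agent.DCat Groth.Agent.Dual22Lib Groth.Agent.Dual22Lib.WeakExact

attribute [local instance] HasDerivedCategory.standard
attribute [-instance] Int.instConditionallyCompleteLinearOrder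

namespace Groth.Agent.RightAdjBdd28

variable {X Y X' Y' T : Scheme.{u}}

/-- An isomorphism of underlying objects is one in `DQCoh`. -/
noncomputable def qIso {K L : DCoh.DQCoh Y} (e : K.obj ≅ L.obj) : K ≅ L :=
  (ObjectProperty.fullyFaithfulι _).preimageIso e

theorem isLE_restrictD (j : T ⟶ X) [IsOpenImmersion j] {K : DCoh.D X} {n : ℤ} (h : K.IsLE n) :
    ((DCoh.restrictD j).obj K).IsLE n := by
  haveI := PullPerf.preservesFiniteLimits_restrict j
  refine (DerivedCategory.isLE_iff _ _).2 fun i hi => ?_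
  exact IsZero.of_iso ((Scheme.Modules.restrictFunctor j).map_isZero ((DerivedCategory.isLE_iff _ _).1 h i hi))
    (DCat.SuppOpen.hdMapIso (Scheme.Modules.restrictFunctor j) K i)

/-- The images under `a` of all representatives of `E` are bounded above by `m`. -/
def Bd (a : DCoh.DQCoh Y' ⥤ DCoh.DQCoh X') (E : DCoh.D Y') (m : ℤ) : Prop :=
  ∀ K : DCoh.DQCoh Y', Nonempty (K.obj ≅ E) → (a.obj K).obj.IsLE m

variable {a : DCoh.DQCoh Y' ⥤ DCoh.DQCoh X'}

theorem Bd.of_iso {E E' : DCoh.D Y'} (e : E ≅ E') {m : ℤ} (h : Bd a E m) : Bd a E' m :=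
  fun K ⟨e'⟩ => h K ⟨e' ≪≫ e.symm⟩

theorem Bd.mono {E : DCoh.D Y'} {m m' : ℤ} (h : Bd a E m) (hm : m ≤ m') : Bd a E m' := fun K he => by
  haveI := h K he
  exact TStructure.t.isLE_of_le _ m m' hm

theorem bd₂ (hF : TriExact (a ⋙ ObjectProperty.ι _)) {T : Triangle (DCoh.D Y')} (hT : T ∈ distTriang _)
    (h₁ : DCoh.IsQCohD T.obj₁) (h₃ : DCoh.IsQCohD T.obj₃) {m : ℤ} (b₁ : Bd a T.obj₁ m) (b₃ : Bd a T.obj₃ m) :
    Bd a T.obj₂ m := by
  rintro K ⟨e⟩
  have h2 : DCoh.IsQCohD T.obj₂ := DQCoh.isQCohD_of_iso e K.property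
  obtain ⟨p, q, δ, -, -, hd⟩ := RightAdjTensor.exists_lift_triangle hT h₁ h2 h₃
  obtain ⟨δ', hd'⟩ := hF _ hd
  have e1 : (a.obj ⟨T.obj₁, h₁⟩).obj.IsLE m := b₁ _ ⟨Iso.refl _⟩
  have e3 : (a.obj ⟨T.obj₃, h₃⟩).obj.IsLE m := b₃ _ ⟨Iso.refl _⟩
  haveI : ((a ⋙ ObjectProperty.ι _).obj ⟨T.obj₂, h2⟩).IsLE m := TStructure.t.isLE₂ _ hd' m e1 e3
  exact TStructure.t.isLE_of_iso ((a ⋙ ObjectProperty.ι _).mapIso (qIso (K := K) (L := ⟨T.obj₂, h2⟩) e).symm) m

theorem bd₁ (hF : TriExact (a ⋙ ObjectProperty.ι _)) {T : Triangle (DCoh.D Y')} (hT : T ∈ distTriang _)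
    (h₂ : DCoh.IsQCohD T.obj₂) (h₃ : DCoh.IsQCohD T.obj₃) {m : ℤ} (b₂ : Bd a T.obj₂ m) (b₃ : Bd a T.obj₃ m) :
    Bd a T.obj₁ (m + 1) := by
  rintro K ⟨e⟩
  have h1 : DCoh.IsQCohD T.obj₁ := DQCoh.isQCohD_of_iso e K.property
  obtain ⟨p, q, δ, -, -, hd⟩ := RightAdjTensor.exists_lift_triangle hT h1 h₂ h₃
  obtain ⟨δ', hd'⟩ := hF _ hd
  haveI e2 : ((a ⋙ ObjectProperty.ι _).obj ⟨T.obj₂, h₂⟩).IsLE m := b₂ _ ⟨Iso.refl _⟩
  haveI e3 : ((a ⋙ ObjectProperty.ι _).obj ⟨T.obj₃, h₃⟩).IsLE m := b₃ _ ⟨Iso.refl _⟩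
  haveI : ((a ⋙ ObjectProperty.ι _).obj ⟨T.obj₁, h1⟩).IsLE (m + 1) :=
    TStructure.t.isLE₂ _ (inv_rot_of_distTriang _ hd') (m + 1)
      (@Triangulated.TStructure.isLE_shift _ _ _ _ _ _ _ TStructure.t _ m (-1) (m + 1) (by omega) e3)
      (@Triangulated.TStructure.isLE_of_le _ _ _ _ _ _ _ TStructure.t _ m (m + 1) (by omega) e2)
  exact TStructure.t.isLE_of_iso ((a ⋙ ObjectProperty.ι _).mapIso (qIso (K := K) (L := ⟨T.obj₁, h1⟩) e).symm) _

/-- `a` is bounded above on objects pushed forward from `T`. -/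
def R (a : DCoh.DQCoh Y' ⥤ DCoh.DQCoh X') (v : T ⟶ Y') : Prop :=
  ∀ (_ : DCoh.HasRpush v), ∃ d : ℤ, ∀ (L : DCoh.D T), DCoh.IsQCohD L → ∀ n : ℤ, L.IsLE n →
    Bd a ((DCoh.Rpush v).obj L) (n + d)

/-- The gluing step. -/
theorem r_sup (hF : TriExact (a ⋙ ObjectProperty.ι _)) (v : T ⟶ Y') [QuasiCompact v] [QuasiSeparated v]
    {U W : T.Opens} (hUW : U ⊔ W = ⊤) [QuasiCompact U.ι] [QuasiCompact W.ι] [QuasiCompact (U ⊓ W).ι]
    (rU : R a (U.ι ≫ v)) (rW : R a (W.ι ≫ v)) (rUW : R a ((U ⊓ W).ι ≫ v)) : R a v := by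
  intro _
  haveI := DCat.hasRpush U.ι
  haveI := DCat.hasRpush W.ι
  haveI := DCat.hasRpush (U ⊓ W).ι
  haveI := DCat.hasRpush (U.ι ≫ v)
  haveI := DCat.hasRpush (W.ι ≫ v)
  haveI := DCat.hasRpush ((U ⊓ W).ι ≫ v)
  haveI := PullPerf.preservesFiniteLimits_restrict U.ι
  haveI := PullPerf.preservesFiniteLimits_restrict W.ι
  haveI := PullPerf.preservesFiniteLimits_restrict (U ⊓ W).ι
  obtain ⟨d1, h1⟩ := rU inferInstance
  obtain ⟨d2, h2⟩ := rW inferInstance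
  obtain ⟨d3, h3⟩ := rUW inferInstance
  refine ⟨max d1 (max d2 d3) + 1, fun L hL n hn => ?_⟩
  obtain ⟨p, q, r, hT⟩ := MV.exists_triangle_id hUW L
  obtain ⟨_, _⟩ := DCat.exists_commShift_Rpush v
  have key : ∀ (O : T.Opens) [QuasiCompact O.ι] [DCoh.HasRpush O.ι] [DCoh.HasRpush (O.ι ≫ v)] (d : ℤ),
      (∀ (M : DCoh.D (O : Scheme.{u})), DCoh.IsQCohD M → ∀ k : ℤ, M.IsLE k →
        Bd a ((DCoh.Rpush (O.ι ≫ v)).obj M) (k + d)) → d ≤ max d1 (max d2 d3) →
      DCoh.IsQCohD ((DCoh.Rpush O.ι).obj ((DCoh.restrictD O.ι).obj L)) ∧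
        Bd a ((DCoh.Rpush v).obj ((DCoh.Rpush O.ι).obj ((DCoh.restrictD O.ι).obj L)))
          (n + max d1 (max d2 d3)) := by
    intro O _ _ _ d hd hle
    obtain ⟨c⟩ := DCat.nonempty_RpushComp O.ι v
    have hq := AdjGeom.isQCohD_restrictD O.ι hL
    exact ⟨DQCoh.isQCohD_Rpush O.ι _ hq,
      ((hd _ hq n (isLE_restrictD O.ι hn)).mono (by omega)).of_iso (c.app _).symm⟩
  obtain ⟨qU, bU⟩ := key U d1 h1 (le_max_left _ _)
  obtain ⟨qW, bW⟩ := key W d2 h2 ((le_max_left _ _).trans (le_max_right _ _))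
  obtain ⟨qI, bI⟩ := key (U ⊓ W) d3 h3 ((le_max_right _ _).trans (le_max_right _ _))
  have hb := binaryBiproductTriangle_distinguished ((DCoh.Rpush U.ι).obj ((DCoh.restrictD U.ι).obj L))
    ((DCoh.Rpush W.ι).obj ((DCoh.restrictD W.ι).obj L))
  have qS : DCoh.IsQCohD ((DCoh.Rpush U.ι).obj ((DCoh.restrictD U.ι).obj L) ⊞
      (DCoh.Rpush W.ι).obj ((DCoh.restrictD W.ι).obj L)) :=
    (AdjGeom.qcD T).ext_of_isTriangulatedClosed₂ _ hb qU qW
  have bS := bd₂ hF ((DCoh.Rpush v).map_distinguished _ hb) (DQCoh.isQCohD_Rpush v _ qU)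
    (DQCoh.isQCohD_Rpush v _ qW) bU bW
  have := bd₁ hF ((DCoh.Rpush v).map_distinguished _ hT) (DQCoh.isQCohD_Rpush v _ qS)
    (DQCoh.isQCohD_Rpush v _ qI) bS bI
  exact this.mono (le_of_eq (by ring))

variable {f : X ⟶ Y} {g : Y' ⟶ Y} {f' : X' ⟶ Y'} {g' : X' ⟶ X}
  [CompactSpace X] [QuasiSeparatedSpace X] [CompactSpace Y] [QuasiSeparatedSpace Y]
  [CompactSpace X'] [QuasiSeparatedSpace X'] [CompactSpace Y'] [QuasiSeparatedSpace Y']
  [DCoh.HasRpush f] [DCoh.HasRpush f'] [DCoh.HasRpush g] [DCoh.HasRpush g']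
  {hf : DCoh.RpushPreservesQCoh f} {hf' : DCoh.RpushPreservesQCoh f'}
  {hg : DCoh.RpushPreservesQCoh g} {hg' : DCoh.RpushPreservesQCoh g'}
  {a₀ : DCoh.DQCoh Y ⥤ DCoh.DQCoh X}

/-- The local case. -/
theorem r_affine (hsq : IsPullback g' f' f g) (hgood : BCSquare.Good f g f' g')
    (adj : DCoh.RpushQ f hf ⊣ a₀) (adj' : DCoh.RpushQ f' hf' ⊣ a)
    (hg : DCoh.RpushPreservesQCoh g) (hg' : DCoh.RpushPreservesQCoh g') {d : ℤ}
    (hd : ∀ (K : DCoh.DQCoh Y) (n : ℤ), K.obj.IsLE n → (a₀.obj K).obj.IsLE (n + d))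
    {S : Scheme.{u}} [IsAffine S] (w : S ⟶ Y) [IsOpenImmersion w] [IsAffine T] (v : T ⟶ Y') [IsOpenImmersion v]
    (h : T ⟶ S) (hw : v ≫ g = h ≫ w) : R a v := by
  intro _
  haveI : QuasiCompact v := inferInstance
  haveI : QuasiCompact w := inferInstance
  haveI : IsAffineHom h := inferInstance
  let k' := pullback.fst f' v
  let q := pullback.snd f' v
  let wX := pullback.fst f w
  let fS := pullback.snd f w
  have sq : IsPullback k' q f' v := IsPullback.of_hasPullback f' v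
  have sqS : IsPullback wX fS f w := IsPullback.of_hasPullback f w
  have big : IsPullback (k' ≫ g') q f (v ≫ g) := sq.paste_horiz hsq
  have hk : (k' ≫ g') ≫ f = (q ≫ h) ≫ w := by rw [big.w, hw, Category.assoc]
  let h' := sqS.lift (k' ≫ g') (q ≫ h) hk
  have sqh : IsPullback h' q fS h := by
    refine IsPullback.of_right ?_ (sqS.lift_snd _ _ _) sqS
    rw [sqS.lift_fst, ← hw]
    exact big
  haveI : IsAffineHom h' := MorphismProperty.of_isPullback sqh.flip inferInstance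
  haveI : QuasiCompact f' := inferInstance
  haveI : CompactSpace (pullback f' v : Scheme.{u}) := QuasiCompact.compactSpace_of_compactSpace q
  haveI : QuasiSeparatedSpace (pullback f' v : Scheme.{u}) := quasiSeparatedSpace_of_quasiSeparated q
  haveI := DCat.hasRpush q
  haveI := DCat.hasRpush k'
  haveI := DCat.hasRpush h'
  haveI := DCat.hasRpush wX
  haveI := DCat.hasRpush (h' ≫ wX)
  haveI := DCat.hasRpush (k' ≫ g')
  have hv : DCoh.RpushPreservesQCoh v := fun K hK => DQCoh.isQCohD_Rpush v K hK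
  have hq : DCoh.RpushPreservesQCoh q := fun K hK => DQCoh.isQCohD_Rpush q K hK
  have hk' : DCoh.RpushPreservesQCoh k' := fun K hK => DQCoh.isQCohD_Rpush k' K hK
  haveI : (DCoh.RpushQ q hq).IsLeftAdjoint := AdjGeom.isLeftAdjoint_RpushQ q hq
  let adjT := Adjunction.ofIsLeftAdjoint (DCoh.RpushQ q hq)
  obtain ⟨e₁, he₁⟩ := XiIso.exists_isIso_xi (hg := hg) (hg' := hg') hsq.w hgood adj adj'
  obtain ⟨e₂, he₂⟩ := XiIso.exists_isIso_xi (hg := hv) (hg' := hk') sq.w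
    (BCMain.good_of_flat f' v sq (Or.inr inferInstance)) adj' adjT
  obtain ⟨Ng, hNg⟩ := SupportAdj.exists_isLE_Rpush g
  obtain ⟨Nv, hNv⟩ := SupportAdj.exists_isLE_Rpush v
  obtain ⟨Nk, hNk⟩ := SupportAdj.exists_isLE_Rpush k'
  refine ⟨Nv + Ng + d + Nk, fun L hL n hn K ⟨eK⟩ => ?_⟩
  let M : DCoh.DQCoh T := ⟨L, hL⟩
  haveI := he₂ M
  haveI := he₁ ((DCoh.RpushQ v hv).obj M)
  let G := (DCoh.RpushQ q hq).rightAdjoint.obj M
  let i₂ : (DCoh.Rpush k').obj G.obj ≅ (a.obj ((DCoh.RpushQ v hv).obj M)).obj :=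
    (ObjectProperty.ι _).mapIso (asIso (Dual3.xi adj' adjT e₂ M))
  let i₁ : (DCoh.Rpush g').obj (a.obj ((DCoh.RpushQ v hv).obj M)).obj ≅
      (a₀.obj ((DCoh.RpushQ g hg).obj ((DCoh.RpushQ v hv).obj M))).obj :=
    (ObjectProperty.ι _).mapIso (asIso (Dual3.xi adj adj' e₁ ((DCoh.RpushQ v hv).obj M)))
  have hle : (a₀.obj ((DCoh.RpushQ g hg).obj ((DCoh.RpushQ v hv).obj M))).obj.IsLE (n + Nv + Ng + d) :=
    hd _ _ (hNg _ _ (hv L hL) (hNv L n hL hn))
  obtain ⟨b, _⟩ := AdjGeom.exists_adj wX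
  obtain ⟨c₁⟩ := DCat.nonempty_RpushComp k' g'
  obtain ⟨c₂⟩ := DCat.nonempty_RpushComp h' wX
  obtain ⟨_, _⟩ := DCat.exists_commShift_Rpush h'
  have e : (DCoh.restrictD wX).obj (a₀.obj ((DCoh.RpushQ g hg).obj ((DCoh.RpushQ v hv).obj M))).obj ≅
      (DCoh.Rpush h').obj G.obj :=
    (DCoh.restrictD wX).mapIso (i₁.symm ≪≫ (DCoh.Rpush g').mapIso i₂.symm ≪≫ c₁.app G.obj ≪≫
      eqToIso (by simp [h']) ≪≫ (c₂.app G.obj).symm) ≪≫
      (asIso b.counit).app ((DCoh.Rpush h').obj G.obj)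
  haveI hh : ((DCoh.Rpush h').obj G.obj).IsLE (n + Nv + Ng + d) :=
    @Triangulated.TStructure.isLE_of_iso _ _ _ _ _ _ _ TStructure.t _ _ e _ (isLE_restrictD wX hle)
  have hG : G.obj.IsLE (n + Nv + Ng + d) := (DerivedCategory.isLE_iff _ _).2 fun i hi =>
    DQCoh.PointDetect17.isZero_HD_of_push h' G.obj G.property i ((DerivedCategory.isLE_iff _ _).1 hh i hi)
  haveI := hNk G.obj _ G.property hG
  haveI : (a.obj ((DCoh.RpushQ v hv).obj M)).obj.IsLE (n + Nv + Ng + d + Nk) := TStructure.t.isLE_of_iso i₂ _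
  haveI : (a.obj K).obj.IsLE (n + Nv + Ng + d + Nk) :=
    @Triangulated.TStructure.isLE_of_iso _ _ _ _ _ _ _ TStructure.t _ _
      ((a ⋙ ObjectProperty.ι _).mapIso (qIso (K := (DCoh.RpushQ v hv).obj M) (L := K) eK.symm)) (n + Nv + Ng + d + Nk) ‹_›
  exact TStructure.t.isLE_of_le _ (n + Nv + Ng + d + Nk) _ (le_of_eq (by ring))

/-- Right adjoints stay bounded above after tor independent base change. -/
theorem bounded (hsq : IsPullback g' f' f g) (htor : BCMain.TorInd f g)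
    (adj : DCoh.RpushQ f hf ⊣ a₀) (adj' : DCoh.RpushQ f' hf' ⊣ a)
    (hg : DCoh.RpushPreservesQCoh g) (hg' : DCoh.RpushPreservesQCoh g')
    (hbd : ∃ d : ℤ, ∀ (K : DCoh.DQCoh Y) (n : ℤ), K.obj.IsLE n → (a₀.obj K).obj.IsLE (n + d)) :
    ∃ d' : ℤ, ∀ (K : DCoh.DQCoh Y') (n : ℤ), K.obj.IsLE n → (a.obj K).obj.IsLE (n + d') := by
  obtain ⟨d, hd⟩ := hbd
  haveI : QuasiCompact f := inferInstance
  haveI : QuasiSeparated f := inferInstance
  have hgood := BCMain.good_main f g hsq htor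
  have hF := Dual6Lib.BCShriekGlobal.triExact_rightAdjoint f' adj'
  let Q : Scheme.{u} → Prop := fun S => CompactSpace S → ∀ (w : S ⟶ Y), IsOpenImmersion w →
    ∀ (T : Scheme.{u}), CompactSpace T → ∀ (v : T ⟶ Y'), IsOpenImmersion v → ∀ h : T ⟶ S, v ≫ g = h ≫ w → R a v
  have main : Q Y := by
    refine OpenInduct.scheme_induction (fun S hS => ?_) (fun S hS => ?_) ?_
    · intro _ w _ T hT v _ h hw
      haveI := hS
      haveI : QuasiSeparatedSpace T := QuasiSeparatedSpace.of_isOpenEmbedding v.isOpenEmbedding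
      let P : Scheme.{u} → Prop := fun T => CompactSpace T → ∀ (v : T ⟶ Y'), IsOpenImmersion v →
        ∀ h : T ⟶ S, v ≫ g = h ≫ w → R a v
      refine (show P T from OpenInduct.scheme_induction (fun T hT => ?_) (fun T hT => ?_) ?_) hT v ‹_› h hw
      · intro _ v _ h hw
        haveI := hT
        exact r_affine hsq hgood adj adj' hg hg' hd w v h hw
      · intro _ v _ h hw
        haveI := hT
        haveI : IsAffine T := isAffine_of_isEmpty
        exact r_affine hsq hgood adj adj' hg hg' hd w v h hw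
      · intro T _ U V hUV _ _ _ pU pV pUV hT v _ h hw
        haveI := hT
        refine r_sup hF v hUV ?_ ?_ ?_
        · exact pU (QuasiCompact.compactSpace_of_compactSpace U.ι) _ inferInstance (U.ι ≫ h) (by simp [hw])
        · exact pV (QuasiCompact.compactSpace_of_compactSpace V.ι) _ inferInstance (V.ι ≫ h) (by simp [hw])
        · exact pUV (QuasiCompact.compactSpace_of_compactSpace (U ⊓ V).ι) _ inferInstance ((U ⊓ V).ι ≫ h) (by simp [hw])
    · intro _ w _ T hT v _ h hw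
      haveI := hS
      haveI : IsAffine S := isAffine_of_isEmpty
      haveI : IsEmpty T := Function.isEmpty h
      haveI : IsAffine T := isAffine_of_isEmpty
      exact r_affine hsq hgood adj adj' hg hg' hd w v h hw
    · intro S _ U V hUV _ _ _ pU pV pUV hS w _ T hT v _ h hw
      haveI := hS
      haveI := hT
      haveI : QuasiSeparatedSpace T := QuasiSeparatedSpace.of_isOpenEmbedding v.isOpenEmbedding
      haveI : QuasiCompact h := inferInstance
      have sub : ∀ (O : S.Opens) [QuasiCompact O.ι], QuasiCompact (h ⁻¹ᵁ O).ι := fun O _ =>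
        MorphismProperty.of_isPullback (isPullback_morphismRestrict h O) inferInstance
      haveI := sub U
      haveI := sub V
      haveI : QuasiCompact (h ⁻¹ᵁ U ⊓ h ⁻¹ᵁ V).ι := sub (U ⊓ V)
      refine r_sup hF v (U := h ⁻¹ᵁ U) (W := h ⁻¹ᵁ V) (by rw [← Scheme.Hom.preimage_sup, hUV]; rfl) ?_ ?_ ?_
      · exact pU (QuasiCompact.compactSpace_of_compactSpace U.ι) (U.ι ≫ w) inferInstance _
          (QuasiCompact.compactSpace_of_compactSpace (h ⁻¹ᵁ U).ι) _ inferInstance (h ∣_ U) (by simp [hw])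
      · exact pV (QuasiCompact.compactSpace_of_compactSpace V.ι) (V.ι ≫ w) inferInstance _
          (QuasiCompact.compactSpace_of_compactSpace (h ⁻¹ᵁ V).ι) _ inferInstance (h ∣_ V) (by simp [hw])
      · exact pUV (QuasiCompact.compactSpace_of_compactSpace (U ⊓ V).ι) ((U ⊓ V).ι ≫ w) inferInstance _
          (QuasiCompact.compactSpace_of_compactSpace (h ⁻¹ᵁ (U ⊓ V)).ι) _ inferInstance (h ∣_ (U ⊓ V)) (by simp [hw]; rfl)
  haveI := DCat.hasRpush (𝟙 Y')
  haveI := DCat.hasRpush (𝟙 Y' ≫ 𝟙 Y')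
  have hR : R a (𝟙 Y') := main inferInstance (𝟙 Y) inferInstance Y' inferInstance (𝟙 Y') inferInstance g (by simp)
  obtain ⟨d', hd'⟩ := hR inferInstance
  obtain ⟨c⟩ := DCat.nonempty_RpushComp (𝟙 Y') (𝟙 Y')
  obtain ⟨_, _⟩ := BCSquare.full_faithful_Rpush (𝟙 Y')
  refine ⟨d', fun K n hn => hd' K.obj K.property n hn K ⟨?_⟩⟩
  exact ((DCoh.Rpush (𝟙 Y')).preimageIso (c.app K.obj ≪≫ eqToIso (by simp))).symm

end Groth.Agent.RightAdjBdd28
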